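import Groth.Prelude.Def_W4c5isocrystsimpconnFrobH
import Groth.Prelude.Def_FlatMod2
import Groth.Agent.Lib.OX.PullbackStalk
import Groth.Agent.Lib.AssPts.Flat
import Groth.Agent.Lib.DCoh.LocFree
import Groth.Agent.Lib.SerrePn27.ToHH

/-!
# Iterated Frobenius pullbacks of extensions of free modules
-/

set_option autoImplicit false
set_option linter.all false
set_option backward.isDefEq.respectTransparency false
set_option backward.isDefEq.respectTransparency.types false
universe u

open CategoryTheory CategoryTheory.Limits AlgebraicGeometry Opposite TopologicalSpace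
open CategoryTheory.Abelian (Ext)
open GrothLib.Cohom (hhMap)

noncomputable section

namespace GrothLib.FrobIter10

variable (X : Scheme.{u}) (p : ℕ) [Fact p.Prime] [FrobSch.IsCharP X p]

abbrev pb {Y : Scheme.{u}} (f : X ⟶ Y) := Scheme.Modules.pullback f

/-- The `m`-fold absolute Frobenius. -/
def g : ℕ → (X ⟶ X)
  | 0 => 𝟙 X
  | m + 1 => g m ≫ FrobSch.frob X p

theorem g_preimage : ∀ (m : ℕ) (U : X.Opens), g X p m ⁻¹ᵁ U = U
  | 0, U => rfl
  | m + 1, U => g_preimage m U

theorem g_app : ∀ (m : ℕ) (U : X.Opens) (s : Γ(X, U)),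
    (g X p m).app U s = X.presheaf.map (homOfLE (g_preimage X p m U).le).op (s ^ p ^ m)
  | 0, U, s => by
    change s = X.presheaf.map (𝟙 (op U)) (s ^ p ^ 0)
    rw [X.presheaf.map_id, pow_zero, pow_one]
    rfl
  | m + 1, U, s => by
    change ((g X p m ≫ FrobSch.frob X p).app U).hom s = _
    rw [Scheme.Hom.comp_app]
    change (g X p m).app U (s ^ p) = _
    rw [g_app m U (s ^ p), ← pow_mul, ← pow_succ']
    rfl

/-- The `p ^ m`-th power on the structure sheaf. -/
def e : ℕ → (Coh.toAb (Coh.structureModule X) ⟶ Coh.toAb (Coh.structureModule X))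
  | 0 => 𝟙 _
  | m + 1 => e m ≫ W4c5isocrystsimpconn.frobAb X p

theorem e_app : ∀ (m : ℕ) (U : X.Opens) (s : Γ(X, U)), (e X p m).hom.app (op U) s = s ^ p ^ m
  | 0, U, s => by
    change s = s ^ p ^ 0
    rw [pow_zero, pow_one]
  | m + 1, U, s => by
    refine (congrArg (fun t : Γ(X, U) => t ^ p) (e_app m U s)).trans ?_
    rw [← pow_mul, pow_succ]

theorem map_e : ∀ (m : ℕ) (x : Coh.HH X (Coh.structureModule X) 1),
    Sheaf.H.map (e X p m) 1 x = (W4c5isocrystsimpconn.frobH X p 1)^[m] x
  | 0, x => Sheaf.H.map_id_apply _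
  | m + 1, x => by
    rw [Function.iterate_succ_apply', ← map_e m x]
    exact Sheaf.H.map_comp_apply _ _ _

/-- Sections over an open as sections over its Frobenius preimage. -/
def w (m : ℕ) : Coh.toAb (Coh.structureModule X) ⟶
    Coh.toAb ((Scheme.Modules.pushforward (g X p m)).obj (Coh.structureModule X)) :=
  ⟨{ app := fun U => ((Coh.toAb (Coh.structureModule X)).obj.map (homOfLE (g_preimage X p m U.unop).le).op)
     naturality := fun U V i => by
       change (Coh.toAb (Coh.structureModule X)).obj.map i ≫ _ = _ ≫ (Coh.toAb (Coh.structureModule X)).obj.map _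
       rw [← Functor.map_comp, ← Functor.map_comp]
       rfl }⟩

/-- The pullback of the structure module. -/
def pullUnit {Y : Scheme.{u}} (f : X ⟶ Y) :
    (Scheme.Modules.pullback f).obj (Coh.structureModule Y) ≅ Coh.structureModule X :=
  haveI : (SheafOfModules.pushforward.{u} f.toRingCatSheafHom).IsRightAdjoint :=
    (Scheme.Modules.pullbackPushforwardAdjunction f).isRightAdjoint
  @asIso _ _ _ _ (SheafOfModules.pullbackObjUnitToUnit f.toRingCatSheafHom)
    (SheafOfModules.instIsIsoPullbackObjUnitToUnitOfFinal (F := Opens.map f.base) f.toRingCatSheafHom)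

theorem map_unit_eq_zero (b : ℕ) (hb : ∀ x, (W4c5isocrystsimpconn.frobH X p 1)^[b] x = 0)
    (y : Coh.HH X (Coh.structureModule X) 1) :
    Sheaf.H.map ((QCoh.toAbFun X).map
      ((Scheme.Modules.pullbackPushforwardAdjunction (g X p b)).unit.app (Coh.structureModule X))) 1 y = 0 := by
  let adj := Scheme.Modules.pullbackPushforwardAdjunction (g X p b)
  let ι := (Scheme.Modules.pushforward (g X p b)).mapIso (pullUnit X (g X p b))
  let u₀ : Coh.structureModule X ⟶ (Scheme.Modules.pushforward (g X p b)).obj (Coh.structureModule X) :=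
    SheafOfModules.unitToPushforwardObjUnit (g X p b).toRingCatSheafHom
  have hη : adj.unit.app (Coh.structureModule X) ≫ ι.hom = u₀ := by
    refine (adj.homEquiv_unit _ _ _).symm.trans ?_
    haveI : (SheafOfModules.pushforward.{u} (g X p b).toRingCatSheafHom).IsRightAdjoint :=
      (Scheme.Modules.pullbackPushforwardAdjunction (g X p b)).isRightAdjoint
    exact SheafOfModules.pullbackPushforwardAdjunction_homEquiv_pullbackObjUnitToUnit _
  have hu : (QCoh.toAbFun X).map u₀ = e X p b ≫ w X p b := by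
    ext U s
    change (g X p b).app U.unop s = X.presheaf.map _ ((e X p b).hom.app (op U.unop) s)
    rw [e_app]
    exact g_app X p b U.unop s
  have h0 : Sheaf.H.map ((QCoh.toAbFun X).map u₀) 1 y = 0 := by
    rw [hu, Sheaf.H.map_comp_apply, map_e, hb, map_zero]
  rw [(Iso.eq_comp_inv _).2 hη, Functor.map_comp, Sheaf.H.map_comp_apply]
  exact (congrArg _ h0).trans (map_zero _)

variable {X}

theorem map_sum_eq_zero {M N : X.Modules} {ι : Type} (s : Finset ι) (f : ι → (M ⟶ N))
    (y : Coh.HH X M 1) (h : ∀ i ∈ s, Sheaf.H.map ((QCoh.toAbFun X).map (f i)) 1 y = 0) :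
    Sheaf.H.map ((QCoh.toAbFun X).map (∑ i ∈ s, f i)) 1 y = 0 := by
  let φ : (M ⟶ N) →+ Coh.HH X N 1 := AddMonoidHom.mk'
    (fun f => Sheaf.H.map ((QCoh.toAbFun X).map f) 1 y)
    (fun f g => by
      rw [Functor.map_add]
      exact Sheaf.H.map_add_apply _ _ _)
  change φ (∑ i ∈ s, f i) = 0
  rw [map_sum]
  exact Finset.sum_eq_zero h

theorem freeMod_id (n : ℕ) : (∑ i : Fin n,
    Sigma.desc (fun j : Fin n => if j = i then 𝟙 (Coh.structureModule X) else 0) ≫
      Sigma.ι (fun _ : Fin n => Coh.structureModule X) i) = 𝟙 (FlatMod.freeMod X n) := by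
  refine Sigma.hom_ext _ _ fun j => ?_
  rw [Preadditive.comp_sum, Category.comp_id, Finset.sum_eq_single j]
  · rw [← Category.assoc, Sigma.ι_desc, if_pos rfl, Category.id_comp]
  · intro i _ hij
    rw [← Category.assoc, Sigma.ι_desc, if_neg (Ne.symm hij), zero_comp]
  · exact fun h => absurd (Finset.mem_univ j) h

theorem map_unit_free_eq_zero (b : ℕ) (hb : ∀ x, (W4c5isocrystsimpconn.frobH X p 1)^[b] x = 0)
    {n : ℕ} {M : X.Modules} (eM : M ≅ FlatMod.freeMod X n) (y : Coh.HH X M 1) :
    Sheaf.H.map ((QCoh.toAbFun X).map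
      ((Scheme.Modules.pullbackPushforwardAdjunction (g X p b)).unit.app M)) 1 y = 0 := by
  let η := (Scheme.Modules.pullbackPushforwardAdjunction (g X p b)).unit
  let π : Fin n → (M ⟶ Coh.structureModule X) := fun i =>
    eM.hom ≫ Sigma.desc (fun j : Fin n => if j = i then 𝟙 (Coh.structureModule X) else 0)
  let ι : Fin n → (Coh.structureModule X ⟶ M) := fun i =>
    Sigma.ι (fun _ : Fin n => Coh.structureModule X) i ≫ eM.inv
  have hid : (∑ i, π i ≫ ι i) = 𝟙 M := by
    simp only [π, ι, Category.assoc]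
    rw [← Preadditive.comp_sum]
    simp only [← Category.assoc]
    rw [← Preadditive.sum_comp, freeMod_id]
    simp
  have h : η.app M = ∑ i, π i ≫ η.app (Coh.structureModule X) ≫
      (Scheme.Modules.pushforward (g X p b)).map ((Scheme.Modules.pullback (g X p b)).map (ι i)) := by
    have hn : ∀ i, ι i ≫ η.app M = η.app (Coh.structureModule X) ≫
        (Scheme.Modules.pushforward (g X p b)).map ((Scheme.Modules.pullback (g X p b)).map (ι i)) :=
      fun i => η.naturality (ι i)
    simp only [← hn, ← Category.assoc]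
    rw [← Preadditive.sum_comp, hid, Category.id_comp]
  rw [h]
  refine map_sum_eq_zero _ _ _ fun i _ => ?_
  rw [Functor.map_comp, Sheaf.H.map_comp_apply, Functor.map_comp, Sheaf.H.map_comp_apply]
  exact (congrArg _ (map_unit_eq_zero X p b hb _)).trans (map_zero _)

/-- An extension of the structure sheaf stays exact under every pullback. -/
theorem shortExact_pullback {Y : Scheme.{u}} (f : Y ⟶ X) {S : ShortComplex X.Modules} (hS : S.ShortExact)
    (e₃ : S.X₃ ≅ Coh.structureModule X) :
    (S.map (Scheme.Modules.pullback f)).ShortExact := by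
  haveI : (Scheme.Modules.pullback f).IsLeftAdjoint :=
    (Scheme.Modules.pullbackPushforwardAdjunction f).isLeftAdjoint
  haveI : PreservesFiniteColimits (Scheme.Modules.pullback f) := ⟨fun J _ _ => inferInstance⟩
  haveI := hS.epi_g
  refine { exact := ?_, mono_f := ?_, epi_g := ?_ }
  · exact hS.exact.map_of_epi_of_preservesCokernel _ hS.epi_g inferInstance
  · refine (OX.mono_iff _).2 fun y => ?_
    have hT := hS.map_of_exact (OX.stalk (f y))
    obtain ⟨l⟩ := AssPts.exists_stalk_unit_equiv (X := X) (f y)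
    let e' : ModuleCat.of (X.presheaf.stalk (f y)) (X.presheaf.stalk (f y)) ≅ (S.map (OX.stalk (f y))).X₃ :=
      l.toModuleIso ≪≫ ((OX.stalk (f y)).mapIso e₃).symm
    haveI : Projective (S.map (OX.stalk (f y))).X₃ := Projective.of_iso e' inferInstance
    haveI := ((hT.splittingOfProjective).map (ModuleCat.extendScalars (f.stalkMap y).hom)).isSplitMono_f
    refine ((MorphismProperty.monomorphisms _).arrow_mk_iso_iff
      (Arrow.isoMk ((OX.pullStalkIso f y).app S.X₁) ((OX.pullStalkIso f y).app S.X₂)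
        ((OX.pullStalkIso f y).hom.naturality S.f).symm)).2 ?_
    exact inferInstanceAs (Mono ((S.map (OX.stalk (f y))).map (ModuleCat.extendScalars (f.stalkMap y).hom)).f)
  · exact inferInstanceAs (Epi ((Scheme.Modules.pullback f).map S.g))

/-- Iterated Frobenius pullbacks preserve extensions of the structure sheaf. -/
theorem exists_shortExact_iterate : ∀ (m : ℕ) (S : ShortComplex X.Modules), S.ShortExact →
    (S.X₃ ≅ Coh.structureModule X) → ∃ S' : ShortComplex X.Modules, S'.ShortExact ∧
      Nonempty (S'.X₃ ≅ Coh.structureModule X) ∧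
      S'.X₁ = (Scheme.Modules.pullback (FrobSch.frob X p)).obj^[m] S.X₁ ∧
      S'.X₂ = (Scheme.Modules.pullback (FrobSch.frob X p)).obj^[m] S.X₂
  | 0, S, hS, e₃ => ⟨S, hS, ⟨e₃⟩, rfl, rfl⟩
  | m + 1, S, hS, e₃ => by
    obtain ⟨S', h, he, h₁, h₂⟩ := exists_shortExact_iterate m
      (S.map (Scheme.Modules.pullback (FrobSch.frob X p))) (shortExact_pullback _ hS e₃)
      ((Scheme.Modules.pullback (FrobSch.frob X p)).mapIso e₃ ≪≫ pullUnit X _)
    exact ⟨S', h, he, h₁, h₂⟩

/-- The pullback by an iterate of Frobenius is the iterated pullback. -/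
theorem nonempty_iso_iterate : ∀ (m : ℕ) (M : X.Modules),
    Nonempty ((Scheme.Modules.pullback (g X p m)).obj M ≅ (Scheme.Modules.pullback (FrobSch.frob X p)).obj^[m] M)
  | 0, M => ⟨(Scheme.Modules.pullbackId X).app M⟩
  | m + 1, M => by
    obtain ⟨i⟩ := nonempty_iso_iterate m ((Scheme.Modules.pullback (FrobSch.frob X p)).obj M)
    exact ⟨((Scheme.Modules.pullbackComp (g X p m) (FrobSch.frob X p)).app M).symm ≪≫ i⟩

variable (k : Type u) [CommRing k] [X.Over (Spec (CommRingCat.of k))]

include k in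
/-- An extension of the structure sheaf by a free module becomes free after pulling back by a power of
Frobenius killing the first cohomology of the structure sheaf. -/
theorem nonempty_iso_free_succ [HasExt.{u} X.Modules] (b : ℕ)
    (hb : ∀ x, (W4c5isocrystsimpconn.frobH X p 1)^[b] x = 0) {n : ℕ} {S : ShortComplex X.Modules}
    (hS : S.ShortExact) (e₃ : S.X₃ ≅ Coh.structureModule X) (e₁ : S.X₁ ≅ FlatMod.freeMod X n) :
    Nonempty ((Scheme.Modules.pullback (FrobSch.frob X p)).obj^[b] S.X₂ ≅ FlatMod.freeMod X (n + 1)) := by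
  let P := Scheme.Modules.pullback (g X p b)
  let adj := Scheme.Modules.pullbackPushforwardAdjunction (g X p b)
  let η : S.X₁ ⟶ (Scheme.Modules.pushforward (g X p b)).obj (P.obj S.X₁) := adj.unit.app S.X₁
  let x : Ext.{u} S.X₃ S.X₁ 1 := hS.extClass
  have hx : x.comp (Ext.mk₀ η) (add_zero 1) = 0 := by
    have h0 : ((Ext.mk₀ e₃.inv).comp x (zero_add 1)).comp (Ext.mk₀ η) (add_zero 1) = 0 := by
      refine (SerrePn27.bijective_toHH (k := k) 1 _).1 ?_
      rw [SerrePn27.toHH_comp, map_zero]
      exact map_unit_free_eq_zero p b hb e₁ _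
    have := congrArg (fun t => (Ext.mk₀ e₃.hom).comp t (zero_add 1)) h0
    rw [Ext.comp_zero, Ext.comp_assoc_of_third_deg_zero, Ext.mk₀_comp_mk₀_assoc, e₃.hom_inv_id,
      Ext.mk₀_id_comp] at this
    exact this
  obtain ⟨r₀, hr₀⟩ := Ext.contravariant_sequence_exact₁ hS _ (Ext.mk₀ η) (add_zero 1) hx
  obtain ⟨r, rfl⟩ := (Ext.mk₀_bijective _ _).2 r₀
  rw [Ext.mk₀_comp_mk₀] at hr₀
  have hr : S.f ≫ r = η := (Ext.mk₀_bijective _ _).1 hr₀
  let r' : P.obj S.X₂ ⟶ P.obj S.X₁ := (adj.homEquiv _ _).symm r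
  have hf : P.map S.f ≫ r' = 𝟙 _ := by
    rw [← adj.homEquiv_naturality_left_symm, hr, Equiv.symm_apply_eq, adj.homEquiv_id]
  have hSP := shortExact_pullback (g X p b) hS e₃
  let σ : (S.map P).Splitting := ShortComplex.Splitting.ofExactOfRetraction _ hSP.exact r' hf hSP.epi_g
  obtain ⟨iso⟩ := nonempty_iso_iterate p b S.X₂
  let one : Coh.structureModule X ≅ FlatMod.freeMod X 1 :=
    (coproductUniqueIso (fun _ : Fin 1 => Coh.structureModule X)).symm
  let eP : P.obj S.X₁ ≅ FlatMod.freeMod X n := P.mapIso e₁ ≪≫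
    PreservesCoproduct.iso P (fun _ : Fin n => Coh.structureModule X) ≪≫
      Sigma.mapIso (fun _ => pullUnit X (g X p b))
  exact ⟨iso.symm ≪≫ σ.isoBinaryBiproduct ≪≫ biprod.mapIso eP (P.mapIso e₃ ≪≫ pullUnit X _ ≪≫ one) ≪≫
    DCoh.freeModBiprodIso X n 1⟩

end GrothLib.FrobIter10
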